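import Groth.Agent.CurvSt.K760.Iface
import Groth.Agent.RelQuot.K928.QuotTame
import Groth.Agent.Curves.K754.TameQuot
import Groth.Agent.S2155
import Groth.Agent.S2907
import Groth.Agent.S2908
import Groth.Agent.S2909
import Groth.Agent.S2925
import Mathlib.Data.ZMod.Basic

/-!
# Quotient by an involution of a finite flat cover of a proper scheme over a discrete valuation ring
-/

set_option autoImplicit false

universe u

open CategoryTheory CategoryTheory.Limits AlgebraicGeometry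

namespace K492.Hurw

open Groth.Agent Groth.Agent.Sga1.QuotBasic K760.Hurw

/-- The group with two elements. -/
abbrev G2 : Type u := ULift.{u} (Multiplicative (ZMod 2))

section Invol

variable {X Y : Scheme.{u}} (s : X ⟶ X) (hs : s ≫ s = 𝟙 X)

/-- An involution as an automorphism. -/
noncomputable def invAut : Aut X where
  hom := s
  inv := s
  hom_inv_id := hs
  inv_hom_id := hs

theorem invAut_mul_self : invAut s hs * invAut s hs = 1 := Iso.ext hs

/-- The action of the group with two elements given by an involution. -/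
noncomputable def rho : G2.{u} →* Aut X where
  toFun g := if g.down.toAdd = 0 then 1 else invAut s hs
  map_one' := by rw [if_pos]; rfl
  map_mul' g h := by
    obtain ⟨a⟩ := g
    obtain ⟨b⟩ := h
    change (if (a.toAdd + b.toAdd : ZMod 2) = 0 then (1 : Aut X) else invAut s hs) =
      (if (a.toAdd : ZMod 2) = 0 then (1 : Aut X) else invAut s hs) *
        (if (b.toAdd : ZMod 2) = 0 then (1 : Aut X) else invAut s hs)
    generalize a.toAdd = x
    generalize b.toAdd = y
    have h2 : ∀ z : ZMod 2, z = 0 ∨ z = 1 := by decide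
    have h10 : ¬ ((1 : ZMod 2) = 0) := by decide
    have h11 : (1 : ZMod 2) + 1 = 0 := by decide
    rcases h2 x with rfl | rfl <;> rcases h2 y with rfl | rfl
    · simp
    · simp [h10]
    · simp [h10]
    · rw [h11, if_pos rfl, if_neg h10, invAut_mul_self]

/-- The nontrivial element. -/
def tau : G2.{u} := ⟨Multiplicative.ofAdd 1⟩

theorem rho_tau : (rho s hs tau).hom = s := by
  have h10 : ¬ ((1 : ZMod 2) = 0) := by decide
  change (if (1 : ZMod 2) = 0 then (1 : Aut X) else invAut s hs).hom = s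
  rw [if_neg h10]; rfl

theorem rho_cases (g : G2.{u}) : (rho s hs g).hom = 𝟙 X ∨ (rho s hs g).hom = s := by
  change (if g.down.toAdd = 0 then (1 : Aut X) else invAut s hs).hom = 𝟙 X ∨
    (if g.down.toAdd = 0 then (1 : Aut X) else invAut s hs).hom = s
  split_ifs
  · exact Or.inl rfl
  · exact Or.inr rfl

theorem rho_inv {f : X ⟶ Y} (hf : s ≫ f = f) (g : G2.{u}) : (rho s hs g).hom ≫ f = f := by
  rcases rho_cases s hs g with h | h
  · rw [h, Category.id_comp]
  · rw [h, hf]

theorem card_G2 : Nat.card G2.{u} = 2 := by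
  rw [Nat.card_eq_of_bijective _ (Equiv.ulift (α := Multiplicative (ZMod 2))).bijective]
  simp [Nat.card_eq_fintype_card]

theorem isQuot_iff (g : X ⟶ Y) : SGA1.IsQuot (rho s hs) g ↔ IsInvQuot s g := by
  constructor
  · intro h
    have hg : s ≫ g = g := by
      have := h.inv tau
      rwa [rho_tau] at this
    refine ⟨hs, hg, h.affine, h.injective, fun U t => ?_⟩
    rw [h.range_iff U t]
    constructor
    · intro h1
      have h2 := h1 tau
      rwa [appLE_congr_hom (rho_tau s hs)] at h2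
    · intro h1 γ
      rcases rho_cases s hs γ with h2 | h2
      · rw [appLE_congr_hom h2, id_appLE_self]; rfl
      · rw [appLE_congr_hom h2]; exact h1
  · intro h
    refine ⟨h.aff, rho_inv s hs h.over, h.inj, fun U t => ?_⟩
    rw [h.range_iff U t]
    constructor
    · intro h1 γ
      rcases rho_cases s hs γ with h2 | h2
      · rw [appLE_congr_hom h2, id_appLE_self]; rfl
      · rw [appLE_congr_hom h2]; exact h1
    · intro h1
      have h2 := h1 tau
      rwa [appLE_congr_hom (rho_tau s hs)] at h2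

end Invol

/-- A flat finitely presented closed morphism to the spectrum of a local ring with smooth closed fibre is smooth. -/
theorem smooth_of_closedFibre {A : Type u} [CommRing A] [IsLocalRing A] {Y Y₀ : Scheme.{u}}
    (g : Y ⟶ Spec (CommRingCat.of A)) [UniversallyClosed g] [Flat g] [LocallyOfFinitePresentation g]
    {k : Type u} [Field k] (ρ : A →+* k) (hρ : Function.Surjective ρ) (j : Y₀ ⟶ Y)
    (g₀ : Y₀ ⟶ Spec (CommRingCat.of k)) (sq : IsPullback j g₀ g (Spec.map (CommRingCat.ofHom ρ)))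
    [Smooth g₀] : Smooth g := by
  rw [← Scheme.Hom.smoothLocus_eq_top_iff]
  have h0 := S2155.result g _ g₀ j sq (Or.inl inferInstance)
  rw [Scheme.Hom.smoothLocus_eq_top] at h0
  have hpt : ∀ y : Y, g y = IsLocalRing.closedPoint A → y ∈ g.smoothLocus := by
    intro y hy
    have hz : (Spec.map (CommRingCat.ofHom ρ)) (IsLocalRing.closedPoint k) = IsLocalRing.closedPoint A := by
      have : IsLocalHom ρ := hρ.isLocalHom
      exact IsLocalRing.comap_closedPoint ρ
    obtain ⟨z, hz1, -⟩ := Scheme.exists_preimage_of_isPullback sq y (IsLocalRing.closedPoint k)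
      (by rw [hy]; exact hz.symm)
    have h1 : z ∈ j ⁻¹ᵁ g.smoothLocus := by rw [← h0]; trivial
    rw [← hz1]
    exact h1
  rw [eq_top_iff]
  intro y _
  by_contra hy
  have hcl : IsClosed (g '' (g.smoothLocus : Set Y)ᶜ) := g.isClosedMap _ g.smoothLocus.2.isClosed_compl
  have h1 : g y ∈ g '' (g.smoothLocus : Set Y)ᶜ := ⟨y, hy, rfl⟩
  have h2 : IsLocalRing.closedPoint A ∈ g '' (g.smoothLocus : Set Y)ᶜ := by
    have h3 : ∀ z : PrimeSpectrum A, z ⤳ IsLocalRing.closedPoint A := fun z => by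
      rw [← PrimeSpectrum.le_iff_specializes]
      exact IsLocalRing.le_maximalIdeal (Ideal.IsPrime.ne_top inferInstance)
    have h4 : (g y : Spec (CommRingCat.of A)) ⤳ (IsLocalRing.closedPoint A : PrimeSpectrum A) := h3 (g y)
    exact h4.mem_closed hcl h1
  obtain ⟨z, hz, hz'⟩ := h2
  exact hz (hpt z hz')

theorem main : QuotStmt.{u} := by
  intro A _ _ _ h2 V P t _ w _ _ s hs hsw k _ ρ hρ V₀ P₀ X t₀ n sqn i w₀ sqi s₀ hs₀ g₀ F hF hq₀ hsm
  -- the quotient
  obtain ⟨𝒳, g, hg⟩ := S2907.result (rho s hs) (fun x => by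
    obtain ⟨U, hU, hxU⟩ := exists_affine_mem (w x)
    refine ⟨w ⁻¹ᵁ U, hU.preimage w, fun γ => ?_⟩
    change w ((rho s hs γ).hom x) ∈ U
    rw [← Scheme.Hom.comp_apply, rho_inv s hs hsw]
    exact hxU)
  obtain ⟨Φ, hΦ, -⟩ := S2925.result (rho s hs) g hg V w (rho_inv s hs hsw)
  have hcard : ∀ (T : Scheme.{u}) (q : T ⟶ Spec (CommRingCat.of A)),
      IsUnit ((Nat.card G2.{u} : ℕ) : Γ(T, ⊤)) := by
    intro T q
    rw [card_G2]
    have h3 := h2.map ((Scheme.ΓSpecIso (CommRingCat.of A)).inv ≫ q.appTop).hom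
    rw [map_ofNat] at h3
    exact_mod_cast h3
  have hnoeth : IsLocallyNoetherian (Spec (CommRingCat.of A)) := inferInstance
  have hnV : IsLocallyNoetherian V := LocallyOfFiniteType.isLocallyNoetherian t
  have hinvw : ∀ γ : G2.{u}, (rho s hs γ).hom ≫ w = w := rho_inv s hs hsw
  obtain ⟨haff, hsep, hfin, hlft⟩ := S2909.result (rho s hs) g hg w Φ hΦ hinvw
  have hΦaff : IsAffineHom Φ := haff.1 inferInstance
  have hgfin : IsFinite g := hfin inferInstance
  have hΦlft : LocallyOfFiniteType Φ := (hlft hnV inferInstance inferInstance).1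
  have hΦprop : IsProper Φ := K754.TameQuot.isProper hg hΦ hinvw
  have hΦfin : IsFinite Φ := (IsFinite.iff_isProper_and_isAffineHom).2 ⟨hΦprop, hΦaff⟩
  have hwt : g ≫ Φ ≫ t = w ≫ t := by rw [← Category.assoc, hΦ]
  have hflat : Flat (Φ ≫ t) := K754.TameQuot.flat hg hwt (hcard _ (𝟙 _))
  have hlfp : LocallyOfFinitePresentation (Φ ≫ t) := inferInstance
  -- the closed fibre
  have hi0 : s₀ ≫ w₀ = w₀ := by rw [← hF, ← Category.assoc, hq₀.over]
  have hs₀s₀ : s₀ ≫ s₀ = 𝟙 P₀ := hq₀.invol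
  have hg₀ : SGA1.IsQuot (rho s₀ hs₀s₀) g₀ := (isQuot_iff s₀ hs₀s₀ g₀).2 hq₀
  have sqX : IsPullback (pullback.fst Φ n) (pullback.snd Φ n) Φ n := IsPullback.of_hasPullback Φ n
  let p' : P₀ ⟶ pullback Φ n := sqX.lift (i ≫ g) w₀ (by rw [Category.assoc, hΦ, sqi.w])
  have hp1 : p' ≫ pullback.fst Φ n = i ≫ g := sqX.lift_fst _ _ _
  have hp2 : p' ≫ pullback.snd Φ n = w₀ := sqX.lift_snd _ _ _
  have sqP : IsPullback i p' g (pullback.fst Φ n) :=
    IsPullback.of_bot (by rw [hp2, hΦ]; exact sqi) hp1.symm sqX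
  have hs₀p : s₀ ≫ p' = p' := by
    apply sqX.hom_ext
    · rw [Category.assoc, hp1, ← Category.assoc, hs₀, Category.assoc]
      have := ((isQuot_iff s hs g).1 hg).over
      rw [this]
    · rw [Category.assoc, hp2, hi0]
  have hp' : SGA1.IsQuot (rho s₀ hs₀s₀) p' := by
    refine K928.QuotTame.isQuot_baseChange hg sqP _ (fun γ => ?_) (rho_inv s₀ hs₀s₀ hs₀p) (hcard _ (Φ ≫ t))
    by_cases hγ : γ.down.toAdd = 0
    · have e1 : rho s₀ hs₀s₀ γ = 1 := if_pos hγ
      have e2 : rho s hs γ = 1 := if_pos hγ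
      rw [e1, e2]
      exact (Category.id_comp i).trans (Category.comp_id i).symm
    · have e1 : rho s₀ hs₀s₀ γ = invAut s₀ hs₀s₀ := if_neg hγ
      have e2 : rho s hs γ = invAut s hs := if_neg hγ
      rw [e1, e2]
      exact hs₀
  obtain ⟨a, ha, hau⟩ := S2925.result (rho s₀ hs₀s₀) g₀ hg₀ _ p' hp'.inv
  obtain ⟨b, hb, -⟩ := S2925.result (rho s₀ hs₀s₀) p' hp' _ g₀ hg₀.inv
  have hab : a ≫ b = 𝟙 X := (S2925.result (rho s₀ hs₀s₀) g₀ hg₀ _ g₀ hg₀.inv).unique
    (by rw [← Category.assoc, ha, hb]) (Category.comp_id _)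
  have hba : b ≫ a = 𝟙 _ := (S2925.result (rho s₀ hs₀s₀) p' hp' _ p' hp'.inv).unique
    (by rw [← Category.assoc, hb, ha]) (Category.comp_id _)
  let e : X ≅ pullback Φ n := ⟨a, b, hab, hba⟩
  have haF : a ≫ pullback.snd Φ n = F := by
    refine (S2925.result (rho s₀ hs₀s₀) g₀ hg₀ _ w₀ (rho_inv s₀ hs₀s₀ hi0)).unique ?_ hF
    rw [← Category.assoc, ha, hp2]
  have sqF : IsPullback (a ≫ pullback.fst Φ n) F Φ n :=
    IsPullback.of_iso sqX e.symm (Iso.refl _) (Iso.refl _) (Iso.refl _)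
      (by change _ ≫ 𝟙 _ = b ≫ a ≫ _; rw [← Category.assoc, hba]; simp)
      (by change _ ≫ 𝟙 _ = b ≫ F; rw [← haF, ← Category.assoc, hba]; simp) (by simp) (by simp)
  have hsmooth : Smooth (Φ ≫ t) := by
    have sq2 : IsPullback (a ≫ pullback.fst Φ n) (F ≫ t₀) (Φ ≫ t) (Spec.map (CommRingCat.ofHom ρ)) :=
      sqF.paste_vert sqn
    exact smooth_of_closedFibre (Φ ≫ t) ρ hρ _ (F ≫ t₀) sq2
  refine ⟨𝒳, g, Φ, a ≫ pullback.fst Φ n, (isQuot_iff s hs g).1 hg, hΦ, hΦfin, hsmooth, ?_, sqF⟩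
  rw [← Category.assoc, ha, hp1]

end K492.Hurw
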